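import Cfsg.Agent.INV.U3Ch.Basic
import Cfsg.Agent.INV.ZStar
import Cfsg.Agent.INV.AbPSL2

/-!
A simple group with the rank-one data of `PSU₃(q)`, `q` odd, has 2-rank at most 2.
-/

set_option autoImplicit false

namespace CL.U3Ch

open Subgroup MulAction Cfsg

theorem exp_eq {p n k v : ℕ} (hp : 3 ≤ p) (hk : 0 < k) (hk3 : k < 3 * n) (hv : p ^ n = 2 * v + 1)
    (h1 : v ∣ p ^ k - 1) (h2 : p ^ k + 1 ∣ p ^ (3 * n) + 1) : k = n := by
  have one : ∀ i, 1 ≤ p ^ i := fun i => Nat.one_le_pow _ _ (by omega)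
  have lt : ∀ {i j}, p ^ i < p ^ j → i < j := fun h => (Nat.pow_lt_pow_iff_right (by omega)).1 h
  have hk1 : 1 < p ^ k := Nat.one_lt_pow hk.ne' (by omega)
  refine le_antisymm ?_ ?_
  · obtain ⟨j, hj⟩ : ∃ j, 3 * n = k + j := ⟨3 * n - k, by omega⟩
    have hj1 : 1 < p ^ j := Nat.one_lt_pow (by omega) (by omega)
    have e1 : p ^ (3 * n) + 1 + (p ^ j - 1) = (p ^ k + 1) * p ^ j := by
      rw [hj, pow_add, add_mul]; omega
    have d1 : p ^ k + 1 ∣ p ^ j - 1 := (Nat.dvd_add_right h2).1 (e1 ▸ dvd_mul_right _ _)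
    have := Nat.le_of_dvd (by omega) d1
    have hkj : k < j := lt (by omega)
    obtain ⟨i, rfl⟩ : ∃ i, j = k + i := ⟨j - k, by omega⟩
    have e2 : p ^ (k + i) - 1 + (p ^ i + 1) = (p ^ k + 1) * p ^ i := by
      rw [pow_add] at hj1 ⊢; rw [add_mul]; omega
    have d2 : p ^ k + 1 ∣ p ^ i + 1 := (Nat.dvd_add_right d1).1 (e2 ▸ dvd_mul_right _ _)
    have := Nat.le_of_dvd (by omega) d2
    have : k < i + 1 := lt (by rw [pow_succ]; nlinarith [one i])
    omega
  · have := Nat.le_of_dvd (by omega) h1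
    have h3 := Nat.mul_le_mul_left (p ^ k) hp
    have : n < k + 1 := lt (by rw [pow_succ]; omega)
    omega

theorem card_syl {G : Type*} [Group G] [Finite G] (S : Sylow 2 G) {e o : ℕ} (ho : Odd o)
    (h : Nat.card G = 2 ^ e * o) : Nat.card S = 2 ^ e := by
  rw [S.card_eq_multiplicity, h, Nat.factorization_mul (by positivity) ho.pos.ne',
    Nat.Prime.factorization_pow Nat.prime_two]
  simp [Nat.factorization_eq_zero_of_not_dvd ho.not_two_dvd_nat]

/-- `k` has order `2 ^ m`, `t` is its involution and `C(t) ≤ C(k)`. -/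
structure Ax {G : Type*} [Group G] (m : ℕ) (k t : G) : Prop where
  ord : orderOf k = 2 ^ m
  inv : ∀ x ∈ zpowers k, x ^ 2 = 1 → x = 1 ∨ x = t
  mem : t ∈ zpowers k
  ne : t ≠ 1
  cent : ∀ c, Commute c t → Commute c k

variable {G : Type*} [Group G]

theorem Ax.conj {m : ℕ} {k t : G} (h : Ax m k t) (g : G) : Ax m (g * k * g⁻¹) (g * t * g⁻¹) where
  ord := by rw [← h.ord]; exact (MulAut.conj g).orderOf_eq k
  inv := by
    rintro _ ⟨i, rfl⟩ hx
    simp only [conj_zpow] at hx ⊢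
    rw [conj_pow, conj_eq_one_iff] at hx
    rcases h.inv _ ⟨i, rfl⟩ hx with e | e
    · exact Or.inl (conj_eq_one_iff.2 e)
    · exact Or.inr (by rw [← e])
  mem := by
    obtain ⟨i, hi⟩ := h.mem
    exact ⟨i, by simp only [conj_zpow, ← hi]⟩
  ne := fun e => h.ne (conj_eq_one_iff.1 e)
  cent := fun c hc => by
    have h1 : Commute (g⁻¹ * c * g) t := by
      have := hc.map (MulAut.conj g⁻¹).toMonoidHom
      simpa [mul_assoc] using this
    have := (h.cent _ h1).map (MulAut.conj g).toMonoidHom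
    simpa [mul_assoc] using this

theorem rank_aux [Finite G] {m : ℕ} {k t k' t' h : G} (A : Ax m k t) (A' : Ax m k' t')
    (hne : t ≠ t') (hc : Commute t t') (hm : 1 ≤ m) {S E : Subgroup G}
    (hS : Nat.card S = 2 ^ (2 * m + 1)) (hk : k ∈ S) (hk' : k' ∈ S) (hh : h ∈ S)
    (ho : orderOf h = 2 ^ (m + 1)) (hES : E ≤ S) (hE : IsMulCommutative E)
    (hE2 : ∀ x ∈ E, x ^ 2 = 1) : Nat.card E ≤ 4 := by
  by_contra hlt
  have ckk : Commute k' k := A.cent _ (A'.cent _ hc).symm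
  have pk : ∀ x ∈ zpowers k, x ^ 2 ^ m = 1 := fun x hx =>
    orderOf_dvd_iff_pow_eq_one.1 (A.ord ▸ orderOf_dvd_of_mem_zpowers hx)
  have pk' : ∀ x ∈ zpowers k', x ^ 2 ^ m = 1 := fun x hx =>
    orderOf_dvd_iff_pow_eq_one.1 (A'.ord ▸ orderOf_dvd_of_mem_zpowers hx)
  have cz : ∀ x ∈ zpowers k, ∀ y ∈ zpowers k', Commute x y := by
    rintro _ ⟨i, rfl⟩ _ ⟨j, rfl⟩; exact ckk.symm.zpow_zpow i j
  have hdisj : ∀ x ∈ zpowers k, x ∈ zpowers k' → x = 1 := fun x hx hx' => by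
    by_contra h1
    obtain ⟨j, hj, e⟩ := (Nat.dvd_prime_pow Nat.prime_two).1
      (orderOf_dvd_iff_pow_eq_one.2 (pk x hx))
    obtain ⟨i, rfl⟩ : ∃ i, j = i + 1 := ⟨j - 1, by
      have : j ≠ 0 := fun e' => h1 (orderOf_eq_one_iff.1 (by rw [e, e', pow_zero])); omega⟩
    have h2 : (x ^ 2 ^ i) ^ 2 = 1 := by rw [← pow_mul, ← pow_succ, ← e, pow_orderOf_eq_one]
    have h3 : x ^ 2 ^ i ≠ 1 := pow_ne_one_of_lt_orderOf (by positivity)
      (e ▸ Nat.pow_lt_pow_right (by norm_num) (by omega))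
    exact hne (((A.inv _ (pow_mem hx _) h2).resolve_left h3).symm.trans
      ((A'.inv _ (pow_mem hx' _) h2).resolve_left h3))
  let f : zpowers k × zpowers k' →* G :=
    MonoidHom.noncommCoprod (zpowers k).subtype (zpowers k').subtype fun x y => cz x x.2 y y.2
  have hf : Function.Injective f := (injective_iff_map_eq_one f).2 fun ⟨x, y⟩ e => by
    have e' : (x : G) * y = 1 := e
    have hx : (x : G) = 1 := hdisj x x.2 (by rw [eq_inv_of_mul_eq_one_left e']; exact inv_mem y.2)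
    rw [hx, one_mul] at e'
    exact Prod.ext (Subtype.ext hx) (Subtype.ext e')
  have hcard : Nat.card f.range = 2 ^ (2 * m) := by
    rw [← Nat.card_congr (MonoidHom.ofInjective hf).toEquiv, Nat.card_prod, Nat.card_zpowers,
      Nat.card_zpowers, A.ord, A'.ord, two_mul, pow_add]
  have hle : f.range ≤ S := by
    rintro _ ⟨⟨x, y⟩, rfl⟩
    exact S.mul_mem (zpowers_le.2 hk x.2) (zpowers_le.2 hk' y.2)
  have hind : f.range.relIndex S = 2 := by
    have := card_mul_index (f.range.subgroupOf S)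
    rw [Nat.card_congr (subgroupOfEquivOfLe hle).toEquiv, hcard, hS, pow_succ] at this
    exact Nat.eq_of_mul_eq_mul_left (by positivity) this
  have hsub : ((f.range ⊓ E : Subgroup G) : Set G) ⊆ {1, t, t', t * t'} := by
    rintro _ ⟨⟨⟨x, y⟩, rfl⟩, hx⟩
    have h2 : ((x : G) * y) ^ 2 = 1 := hE2 _ hx
    rw [(cz x x.2 y y.2).mul_pow] at h2
    have hx2 : (x : G) ^ 2 = 1 := hdisj _ (pow_mem x.2 2)
      (by rw [eq_inv_of_mul_eq_one_left h2]; exact inv_mem (pow_mem y.2 2))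
    rw [hx2, one_mul] at h2
    show (x : G) * y ∈ _
    rcases A.inv _ x.2 hx2 with e | e <;> rcases A'.inv _ y.2 h2 with e' | e' <;> simp [e, e']
  have h4 : ({1, t, t', t * t'} : Set G).ncard ≤ 4 := (Set.ncard_insert_le _ _).trans <|
    Nat.succ_le_succ <| (Set.ncard_insert_le _ _).trans <| Nat.succ_le_succ <|
      (Set.ncard_insert_le _ _).trans <| by rw [Set.ncard_singleton]
  have h5 := Set.ncard_le_ncard hsub
  rw [← Nat.card_coe_set_eq] at h5
  have h6 := relIndex_le_of_le_right (H := f.range) hES (by omega)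
  have h7 := card_mul_index (f.range.subgroupOf E)
  rw [← inf_subgroupOf_right, Nat.card_congr (subgroupOfEquivOfLe inf_le_right).toEquiv,
    inf_subgroupOf_right] at h7
  obtain ⟨j, -, hj⟩ := (Nat.dvd_prime_pow Nat.prime_two).1
    (hS ▸ card_dvd_of_le (inf_le_right.trans hES : f.range ⊓ E ≤ S))
  have h8 : 4 ≤ Nat.card (f.range ⊓ E : Subgroup G) := by
    have h9 := Nat.mul_le_mul_left (Nat.card (f.range ⊓ E : Subgroup G)) (hind ▸ h6)
    rw [hj] at h7 h9 ⊢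
    have : 2 ^ 1 < 2 ^ j := by rw [relIndex] at h9; omega
    exact Nat.pow_le_pow_right (n := 2) (i := 2) (by norm_num)
      ((Nat.pow_lt_pow_iff_right (by norm_num)).1 this)
  have heq := Set.eq_of_subset_of_ncard_le hsub (h4.trans (by rwa [← Nat.card_coe_set_eq]))
  have ht : t ∈ E := (show t ∈ ((f.range ⊓ E : Subgroup G) : Set G) by simp [heq]).2
  have ht' : t' ∈ E := (show t' ∈ ((f.range ⊓ E : Subgroup G) : Set G) by simp [heq]).2
  obtain ⟨e, he, heA⟩ : ∃ e ∈ E, e ∉ f.range := by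
    by_contra! H
    rw [inf_eq_right.2 H] at h5
    exact hlt (h5.trans h4)
  have cE : ∀ x ∈ E, Commute e x := fun x hx =>
    congrArg Subtype.val (hE.is_comm.comm ⟨e, he⟩ ⟨x, hx⟩)
  have hA : ∀ x ∈ f.range, x ^ 2 ^ m = 1 ∧ Commute x e := by
    rintro _ ⟨⟨x, y⟩, rfl⟩
    show ((x : G) * y) ^ 2 ^ m = 1 ∧ Commute ((x : G) * y) e
    refine ⟨by rw [(cz x x.2 y y.2).mul_pow, pk x x.2, pk' y y.2, mul_one], Commute.mul_left ?_ ?_⟩
    · obtain ⟨_, i, rfl⟩ := x; exact (A.cent _ (cE _ ht)).symm.zpow_left i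
    · obtain ⟨_, i, rfl⟩ := y; exact (A'.cent _ (cE _ ht')).symm.zpow_left i
  have h9 : h ^ 2 ^ m = 1 := by
    by_cases hA' : h ∈ f.range
    · exact (hA h hA').1
    · obtain ⟨h1, h2⟩ := hA (h * e) ((mul_mem_iff_of_index_two (H := f.range.subgroupOf S) hind
        (a := ⟨h, hh⟩) (b := ⟨e, hES he⟩)).2 (iff_of_false hA' heA))
      obtain ⟨i, rfl⟩ : ∃ i, m = i + 1 := ⟨m - 1, by omega⟩
      rw [← mul_inv_cancel_right h e, h2.inv_right.mul_pow, h1, one_mul, inv_pow, pow_succ',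
        pow_mul, hE2 e he, one_pow, inv_one]
  exact pow_ne_one_of_lt_orderOf (by positivity)
    (ho ▸ Nat.pow_lt_pow_right (by norm_num) (by omega)) h9

variable {Ω : Type*} [Finite G] [MulAction G Ω] {a b : Ω} {U H : Subgroup G}

namespace Sp

variable (s : Sp a b U H)
include s

/-- Degree not divisible by 4. -/
theorem rank_one (h4 : ¬ 4 ∣ Nat.card U + 1) (hodd : Odd (Nat.card U)) : PRankLE 2 2 G := by
  intro E hE hE2
  by_contra hlt
  have := s.finite
  have : Fact (Nat.Prime 2) := ⟨Nat.prime_two⟩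
  have hP : IsPGroup 2 E := fun x => ⟨1, Subtype.ext (hE2 x x.2)⟩
  obtain ⟨x, hx⟩ : ∃ x : Ω, ¬ 4 ∣ (stabilizer E x).index := by
    by_contra! H'
    exact h4 (by
      rw [← s.card_Ω, ← Set.ncard_univ]
      exact dvd_ncard_of_index E Set.univ (fun _ _ _ _ => trivial) 4 fun x _ => H' x)
  set E' := (stabilizer E x).map E.subtype
  have hle : E' ≤ E := map_subtype_le _
  have hfx : ∀ g ∈ E', g • x = x := by rintro _ ⟨g, hg, rfl⟩; exact hg
  have hc : 2 < Nat.card E' := by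
    obtain ⟨j, hj⟩ := hP.index (stabilizer E x)
    have h1 := card_mul_index (stabilizer E x)
    rw [card_map_of_injective E.subtype_injective]
    have : j ≤ 1 := by
      by_contra h; exact hx (hj ▸ pow_dvd_pow 2 (show 2 ≤ j by omega))
    rw [hj] at h1
    interval_cases j <;> omega
  obtain ⟨y, hyx, hy⟩ : ∃ y : Ω, y ≠ x ∧ ¬ 2 ∣ (stabilizer E' y).index := by
    by_contra! H'
    have h1 := dvd_ncard_of_index E' (Set.univ \ {x}) (fun g hg c hc => ⟨trivial, fun e =>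
      hc.2 ((smul_left_cancel_iff g).1 (e.trans (hfx g hg).symm))⟩) 2 fun c hc => H' c hc.2
    rw [Set.ncard_sdiff_singleton_of_mem (Set.mem_univ x), Set.ncard_univ, s.card_Ω] at h1
    exact hodd.not_two_dvd_nat h1
  have hfy : ∀ g ∈ E', g • y = y := fun g hg => by
    obtain ⟨j, hj⟩ := (hP.to_le hle).index (stabilizer E' y)
    have : j = 0 := by
      by_contra h; exact hy (hj ▸ dvd_pow_self 2 h)
    rw [this, pow_zero, index_eq_one] at hj
    exact (hj ▸ mem_top _ : (⟨g, hg⟩ : E') ∈ stabilizer E' y)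
  obtain ⟨g, rfl, rfl⟩ := s.two_trans hyx.symm
  have hH : ∀ e ∈ E', g⁻¹ * e * g ∈ H := fun e he => (s.mem_H _).2
    ⟨by rw [mul_smul, mul_smul, hfx e he, inv_smul_smul],
      by rw [mul_smul, mul_smul, hfy e he, inv_smul_smul]⟩
  have h2 : ∀ e ∈ E', (g⁻¹ * e * g) ^ 2 = 1 := fun e he => by
    have := conj_pow (a := g⁻¹) (b := e) (i := 2)
    rw [inv_inv] at this
    rw [this, hE2 e (hle he)]; simp
  have h1 : ∀ e : E', e ≠ 1 → g⁻¹ * e * g ≠ 1 := fun e he h => he (Subtype.ext (by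
    have := conj_eq_one_iff (a := g⁻¹) (b := (e : G))
    rw [inv_inv] at this; exact this.1 h))
  have key : ∀ e e' : E', e ≠ 1 → e' ≠ 1 → e = e' := fun e e' he he' => by
    have := s.inv_eq (hH _ e'.2) (hH _ e.2) (orderOf_eq_prime (h2 _ e'.2) (h1 _ he')) (h2 _ e.2)
      (h1 _ he)
    exact Subtype.ext (by simpa using this)
  have := Fintype.ofFinite E'
  obtain ⟨e₁, e₂, e₃, h12, h13, h23⟩ := (Fintype.two_lt_card_iff (α := E')).1
    (by rwa [← Nat.card_eq_fintype_card])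
  by_cases k1 : e₁ = 1
  · exact h23 (key _ _ (k1 ▸ h12.symm) (k1 ▸ h13.symm))
  by_cases k2 : e₂ = 1
  · exact h13 (key _ _ k1 (k2 ▸ h23.symm))
  · exact h12 (key _ _ k1 k2)

/-- If the involution of the torus fixes only two points, it is 2-central of small centraliser. -/
theorem exists_u_inv {m : ℕ} (hm : 2 ≤ m) {h : G} (hh : h ∈ H) (ho : orderOf h = 2 ^ (m + 1))
    {o o' : ℕ} (hodd : Odd o) (hodd' : Odd o') (hH : Nat.card H = 2 ^ (m + 1) * o)
    (hG : Nat.card G = 2 ^ (2 * m + 1) * o') : ∃ u ∈ U, u ≠ 1 ∧ Commute (h ^ 2 ^ m) u := by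
  by_contra hno
  have : Fact (Nat.Prime 2) := ⟨Nat.prime_two⟩
  set t := h ^ 2 ^ m with ht
  have htH : t ∈ H := H.pow_mem hh _
  have ht2 : orderOf t = 2 := by
    rw [ht, orderOf_pow_of_dvd (by positivity) (ho ▸ pow_dvd_pow 2 (by omega)), ho, pow_succ,
      Nat.mul_div_cancel_left _ (by positivity)]
  obtain ⟨ha, hb⟩ := (s.mem_H t).1 htH
  have hfix : ∀ c : Ω, t • c = c → c = a ∨ c = b := fun c hc => by
    by_contra! H'
    exact hno (s.exists_u htH hc H'.1 H'.2)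
  have hC : ∀ g, Commute g t → ∀ c : Ω, t • c = c → t • g • c = g • c := fun g hg c hc => by
    rw [smul_smul, ← hg.eq, mul_smul, hc]
  have hsq : ∀ g, Commute g t → g ^ 2 ∈ H := fun g hg => by
    rw [s.mem_H, sq, mul_smul, mul_smul]
    have hne : g • a ≠ g • b := fun e => s.ne ((smul_left_cancel_iff g).1 e)
    rcases hfix _ (hC g hg a ha) with e | e <;> rcases hfix _ (hC g hg b hb) with e' | e'
    · exact absurd (e.trans e'.symm) hne
    · rw [e, e, e', e']; exact ⟨rfl, rfl⟩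
    · rw [e, e', e]; exact ⟨rfl, rfl⟩
    · exact absurd (e.trans e'.symm) hne
  obtain ⟨S, hS⟩ := (IsPGroup.of_card (p := 2) ((Nat.card_zpowers h).trans ho)).exists_le_sylow
  have hhS : h ∈ (S : Subgroup G) := hS (mem_zpowers h)
  have hSC : ∀ g ∈ (S : Subgroup G), Commute g t := by
    have := S.isPGroup'.isNilpotent
    set T := (centralizer ({t} : Set G)).subgroupOf S
    have hT : T = ⊤ := by
      by_contra hT
      obtain ⟨g, hg, hgT⟩ := SetLike.exists_of_lt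
        (Group.normalizerCondition_of_isNilpotent T (lt_top_iff_ne_top.2 hT))
      have h1 : g * ⟨h, hhS⟩ * g⁻¹ ∈ T := (mem_normalizer_iff.1 hg _).1
        (mem_centralizer_singleton_iff.2 (Commute.self_pow h _).eq)
      obtain ⟨i, rfl⟩ : ∃ i, m = i + 1 := ⟨m - 1, by omega⟩
      have h2 := H.pow_mem (hsq _ (mem_centralizer_singleton_iff.1 h1)) (2 ^ i)
      rw [← pow_mul, ← pow_succ'] at h2
      replace h2 : ((g : G) * h * (g : G)⁻¹) ^ 2 ^ (i + 1) ∈ H := h2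
      rw [conj_pow, ← ht] at h2
      have h3 := s.inv_eq htH h2 ht2
        (by rw [conj_pow, orderOf_dvd_iff_pow_eq_one.1 ht2.dvd]; simp)
        fun e => by rw [conj_eq_one_iff.1 e] at ht2; simp at ht2
      exact hgT (mem_centralizer_singleton_iff.2 (mul_inv_eq_iff_eq_mul.1 h3))
    exact fun g hg => mem_centralizer_singleton_iff.1 (hT ▸ mem_top _ : (⟨g, hg⟩ : S) ∈ T)
  have h1 : (stabilizer (S : Subgroup G) a).index ≤ 2 := by
    rw [index_stabilizer]
    refine (Set.ncard_le_ncard (t := {a, b}) ?_).trans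
      ((Set.ncard_insert_le _ _).trans (by rw [Set.ncard_singleton]))
    rintro _ ⟨g, rfl⟩
    exact hfix _ (hC g (hSC g g.2) a ha)
  have h2 : (stabilizer (S : Subgroup G) a).map (S : Subgroup G).subtype ≤ H := by
    rintro _ ⟨g, hg, rfl⟩
    have hg' : (g : G) • a = a := hg
    refine (s.mem_H _).2 ⟨hg', (hfix _ (hC g (hSC g g.2) b hb)).resolve_left fun e => s.ne ?_⟩
    exact (smul_left_cancel_iff _).1 (hg'.trans e.symm)
  have h3 := card_dvd_of_le h2
  have h4 := card_mul_index (stabilizer (S : Subgroup G) a)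
  rw [card_map_of_injective (subtype_injective _), hH] at h3
  rw [card_syl S hodd' hG] at h4
  obtain ⟨j, -, hj⟩ := (Nat.dvd_prime_pow Nat.prime_two).1 (Dvd.intro _ h4)
  rw [hj] at h3 h4
  have h5 := Nat.le_of_dvd (by positivity)
    ((Nat.Coprime.pow_left j (Nat.coprime_two_left.2 hodd)).dvd_of_dvd_mul_right h3)
  have h6 := Nat.mul_le_mul h5 h1
  rw [h4, ← pow_succ, Nat.pow_le_pow_iff_right (by norm_num)] at h6
  omega

variable [IsSimpleGroup G] {p n v : ℕ} (hp : p.Prime) (hU : Nat.card U = p ^ (3 * n))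
  (hv : p ^ n = 2 * v + 1) (hvo : Odd v) (hvH : v ∣ Nat.card H)
include hp hU hv hvo hvH

theorem card_cent (hp2 : p ≠ 2) {x u : G} (hx : x ∈ H) (hx1 : x ≠ 1) (hu : u ∈ U) (hu1 : u ≠ 1)
    (hc : Commute x u) : Nat.card (U ⊓ centralizer {x} : Subgroup G) = p ^ n := by
  have hp3 : 3 ≤ p := by have := hp.two_le; omega
  obtain ⟨k, hk, e⟩ := (Nat.dvd_prime_pow hp).1
    (hU ▸ card_dvd_of_le (inf_le_left : U ⊓ centralizer {x} ≤ U))
  have hk0 : 0 < k := Nat.pos_of_ne_zero fun h => by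
    rw [h, pow_zero, card_eq_one] at e
    exact hu1 (mem_bot.1 (e ▸ ⟨hu, mem_centralizer_singleton_iff.2 hc.symm.eq⟩))
  have hk3 : k < 3 * n := lt_of_le_of_ne hk fun h => hx1 (s.faith x fun c => by
    by_cases hca : c = a
    · rw [hca, ((s.mem_H x).1 hx).1]
    obtain ⟨w, hw, rfl⟩ := s.trans c hca
    have h1 := eq_of_le_of_card_ge (inf_le_left : U ⊓ centralizer {x} ≤ U) (by rw [e, h, hU])
    exact (s.fix_iff hx hw).2 (mem_centralizer_singleton_iff.1 (h1.symm ▸ hw :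
      w ∈ U ⊓ centralizer {x}).2).symm)
  have h2 := s.succ_dvd hx hu hu1 hc
  rw [s.index_H, e, hU] at h2
  have hcop : ∀ i j, 0 < i → (p ^ i + 1).Coprime (p ^ j) := fun i j hi =>
    Nat.Coprime.pow_right _ (((Nat.coprime_add_iff_right (dvd_pow_self p hi.ne')).2
      (Nat.coprime_one_right p)).symm)
  rw [e, exp_eq hp3 hk0 hk3 hv ?_ ((hcop _ _ hk0).dvd_of_dvd_mul_right h2)]
  obtain ⟨y, hy⟩ : ∃ y : H, orderOf y = v := by
    have := s.cyc
    obtain ⟨g, hg⟩ := IsCyclic.exists_ofOrder_eq_natCard (α := H)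
    exact ⟨_, orderOf_pow_orderOf_div (hg ▸ Nat.card_pos.ne') (hg ▸ hvH)⟩
  rw [← e]
  refine s.dvd_pred hx (zpowers_le.2 y.2) fun c _ ha hb => ?_
  have hcv : (Nat.card (zpowers (y : G))) = v := by rw [Nat.card_zpowers, orderOf_coe, hy]
  suffices stabilizer (zpowers (y : G)) c = ⊥ by rw [this, index_bot, hcv]
  refine eq_bot_iff.2 fun z hz => ?_
  have hzH := zpowers_le.2 y.2 z.2
  obtain ⟨w, hw, hw1, hcw⟩ := s.exists_u hzH hz ha hb
  have h3 := orderOf_dvd_of_pow_eq_one (s.pow_index hzH hw hw1 hcw)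
  have h4 : orderOf (z : G) ∣ v := by rw [orderOf_coe, ← hcv]; exact orderOf_dvd_natCard z
  have h5 : v.Coprime H.index := by
    rw [s.index_H, hU, mul_comm 3, pow_mul, hv]
    refine Nat.Coprime.mul_right ?_ (Nat.Coprime.pow_right _ (by simp))
    rw [show (2 * v + 1) ^ 3 + 1 = 2 + v * (8 * v ^ 2 + 12 * v + 6) by ring]
    simpa using hvo
  exact Subtype.ext (orderOf_eq_one_iff.1 (Nat.eq_one_of_dvd_coprimes h5 h4 h3))

theorem rank_three (hp2 : p ≠ 2) {m o o' : ℕ} (hm : 2 ≤ m) (hodd : Odd o) (hodd' : Odd o')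
    (hH : Nat.card H = 2 ^ (m + 1) * o) (hG : Nat.card G = 2 ^ (2 * m + 1) * o') :
    PRankLE 2 2 G := by
  have : Fact (Nat.Prime 2) := ⟨Nat.prime_two⟩
  have := s.finite
  obtain ⟨h, hh, ho⟩ : ∃ h ∈ H, orderOf h = 2 ^ (m + 1) := by
    have := s.cyc
    obtain ⟨g, hg⟩ := IsCyclic.exists_ofOrder_eq_natCard (α := H)
    exact ⟨_, (g ^ (orderOf g / 2 ^ (m + 1))).2, (orderOf_coe _).trans
      (orderOf_pow_orderOf_div (hg ▸ Nat.card_pos.ne') (hg ▸ hH ▸ dvd_mul_right _ _))⟩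
  obtain ⟨u, hu, hu1, hc⟩ := s.exists_u_inv hm hh ho hodd hodd' hH hG
  set t := h ^ 2 ^ m with ht
  have htH : t ∈ H := H.pow_mem hh _
  have ht2 : orderOf t = 2 := by
    rw [ht, orderOf_pow_of_dvd (by positivity) (ho ▸ pow_dvd_pow 2 (by omega)), ho, pow_succ,
      Nat.mul_div_cancel_left _ (by positivity)]
  have ht1 : t ≠ 1 := fun e => by rw [e] at ht2; simp at ht2
  have hkH : h ^ 2 ∈ H := H.pow_mem hh _
  have hko : orderOf (h ^ 2) = 2 ^ m := by
    rw [orderOf_pow_of_dvd (by positivity) (ho ▸ dvd_pow_self 2 (by omega)), ho, pow_succ,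
      Nat.mul_div_cancel _ (by positivity)]
  have htk : t = (h ^ 2) ^ 2 ^ (m - 1) := by
    rw [← pow_mul, ← pow_succ', Nat.sub_add_cancel (by omega)]
  have hr := s.card_cent hp hU hv hvo hvH hp2 htH ht1 hu hu1 hc
  obtain ⟨w, hw, hw1, hcw⟩ : ∃ w ∈ U, w ≠ 1 ∧ Commute (h ^ 2) w := by
    by_contra hno
    have h4 := s.dvd_pred htH (zpowers_le.2 hh) (n := 4) fun c _ ha hb => by
      by_contra h4
      obtain ⟨j, hj⟩ := (IsPGroup.of_card (p := 2) ((Nat.card_zpowers h).trans ho)).index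
        (stabilizer (zpowers h) c)
      have hj1 : j ≤ 1 := by
        by_contra h; exact h4 (hj ▸ pow_dvd_pow 2 (show 2 ≤ j by omega))
      have h5 := pow_mem (pow_index_mem (H := stabilizer (zpowers h) c) ⟨h, mem_zpowers h⟩)
        (2 ^ (1 - j))
      rw [hj, ← pow_mul, ← pow_add, Nat.add_sub_cancel' hj1] at h5
      exact hno (s.exists_u hkH h5 ha hb)
    rw [hr, hv] at h4
    obtain ⟨i, rfl⟩ := hvo
    omega
  have hr' := s.card_cent hp hU hv hvo hvH hp2 hkH (fun e => ht1 (by rw [htk, e, one_pow])) hw hw1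
    hcw
  have hfix : fixedBy Ω (h ^ 2) \ {a} = fixedBy Ω t \ {a} :=
    Set.eq_of_subset_of_ncard_le (Set.sdiff_subset_sdiff_left ((fixedBy_subset_fixedBy_zpow
      Ω (h ^ 2) (2 ^ (m - 1) : ℕ)).trans (by rw [zpow_natCast, ← htk])))
      (by rw [s.ncard_fix htH, s.ncard_fix hkH, hr, hr'])
  have hfix' : ∀ c : Ω, t • c = c → h ^ 2 • c = c := fun c hc => by
    by_cases hca : c = a
    · rw [hca, ((s.mem_H _).1 hkH).1]
    · exact (hfix.symm ▸ ⟨hc, hca⟩ : c ∈ fixedBy Ω (h ^ 2) \ {a}).1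
  have A : Ax m (h ^ 2) t := ⟨hko, fun x hx h2 => or_iff_not_imp_left.2 fun h1 =>
      s.inv_eq htH (zpowers_le.2 hkH hx) ht2 h2 h1, htk ▸ npow_mem_zpowers _ _, ht1, fun c hc => by
    have key : ∀ d : Ω, t • d = d → (c * h ^ 2 * c⁻¹) • d = d := fun d hd => by
      rw [mul_smul, mul_smul, hfix' _ (by
        rw [smul_smul, ← hc.inv_left.eq, mul_smul, hd]), smul_inv_smul]
    exact mul_inv_eq_iff_eq_mul.1 (s.cent hkH hw hw1 hcw ((s.mem_H _).2
      ⟨key a ((s.mem_H _).1 htH).1, key b ((s.mem_H _).1 htH).2⟩))⟩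
  have hna := s.not_comm fun e => hu1 (by rwa [e, mem_bot] at hu)
  obtain ⟨g, hg, hg1⟩ : ∃ g : G, Commute t (g * t * g⁻¹) ∧ g * t * g⁻¹ ≠ t := by
    by_contra! H'
    have h1 := CL.BS.zstar_center ⟨ht2, H'⟩ (CL.AbS.oddCore_eq_bot hna)
    rcases (normal_of_characteristic (center G)).eq_bot_or_eq_top with e | e
    · exact ht1 (by rwa [e, mem_bot] at h1)
    · exact hna ⟨⟨fun x y => mem_center_iff.1 (e ▸ mem_top y) x⟩⟩
  have A' := A.conj g
  intro E hE hE2
  obtain ⟨S, hS⟩ := (show IsPGroup 2 E from fun x => ⟨1, Subtype.ext (hE2 x x.2)⟩).exists_le_sylow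
  have hP : ∀ {x : G} {i : ℕ}, orderOf x = 2 ^ i → IsPGroup 2 (zpowers x) := fun hx =>
    IsPGroup.of_card ((Nat.card_zpowers _).trans hx)
  have conjS : ∀ {X : Subgroup G}, IsPGroup 2 X → ∃ z : G, ∀ x ∈ X, z * x * z⁻¹ ∈ S := fun hX => by
    obtain ⟨Q, hQ⟩ := hX.exists_le_sylow
    obtain ⟨z, rfl⟩ := exists_smul_eq G Q S
    exact ⟨z, fun x hx => smul_mem_pointwise_smul x (MulAut.conj z) _ (hQ hx)⟩
  have ckk : Commute (g * h ^ 2 * g⁻¹) (h ^ 2) := A.cent _ (A'.cent _ hg).symm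
  obtain ⟨z, hz⟩ := conjS (IsPGroup.to_sup_of_normal_right' (hP A'.ord) (hP A.ord)
    (zpowers_le.2 (centralizer_le_normalizer _ (by
      rintro _ ⟨i, rfl⟩; exact (ckk.symm.zpow_left i).eq))))
  obtain ⟨z', hz'⟩ := conjS (hP ho)
  refine rank_aux (A.conj z) (A'.conj z) (fun e => hg1 (by simpa using e.symm))
    (hg.map (MulAut.conj z).toMonoidHom) (by omega) (card_syl S hodd' hG)
    (hz _ (mem_sup_right (mem_zpowers _))) (hz _ (mem_sup_left (mem_zpowers _)))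
    (hz' _ (mem_zpowers _)) (((MulAut.conj z').orderOf_eq h).trans ho) hS hE hE2

end Sp

end CL.U3Ch
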